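import Groth.Agent.CurveQuot24.Curve
import Groth.Agent.CurveQuot24.Tame
import Groth.Agent.SGA1Quot.FlatBaseChange
import Groth.Agent.CurveQuot24.TameBC
import Groth.Agent.CurveRR24.BCField
import Groth.Agent.FlatMor12.FibreFlat
import Groth.Agent.FBaseLib.Geom

/-! Quotients of families of curves by involutions. -/

set_option autoImplicit false
set_option linter.style.haveILetI false
set_option backward.isDefEq.respectTransparency.types false
set_option maxHeartbeats 1000000
universe u
open CategoryTheory CategoryTheory.Limits AlgebraicGeometry TopologicalSpace Opposite TensorProduct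

open Groth.Agent.CurveQuot24

namespace Groth.Agent.Dbl24

variable {X Y S S' : Scheme.{u}} {G : Type u} [Group G] [Finite G] {ρ : G →* Aut X} {π : X ⟶ Y}

/-- Properties of the fibres of a tame quotient of a family of curves. -/
theorem fibre_props_of_injective {k : Type u} [Field k] (hp : SGA1.IsQuot ρ π) (q : Y ⟶ S) (b : Spec (CommRingCat.of k) ⟶ S)
    [IsProper (π ≫ q)] [Smooth (π ≫ q)] [GeometricallyConnected (π ≫ q)]
    (hρ : ∀ g, (ρ g).hom ≫ π ≫ q = π ≫ q) (hn : IsUnit ((Nat.card G : ℕ) : Γ(S, ⊤)))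
    (hd : topologicalKrullDim ↥(pullback (π ≫ q) b) = 1)
    (hinj : Function.Injective (bcAct ρ (π ≫ q) hρ b)) :
    Smooth (pullback.snd q b) ∧ topologicalKrullDim ↥(pullback q b) = 1 ∧
      Flat (bcHom π q b) ∧ ∀ y : ↥(pullback q b), (bcHom π q b).finrank y = Nat.card G := by
  have hp' := isQuot_bc hp q b hρ hn
  have e' := bcHom_snd π q b
  haveI hsm : Smooth (pullback.snd (π ≫ q) b) := MorphismProperty.pullback_snd (P := @Smooth) _ _ inferInstance
  haveI hpr : IsProper (pullback.snd (π ≫ q) b) := MorphismProperty.pullback_snd (P := @IsProper) _ _ inferInstance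
  haveI hgc : GeometricallyConnected (pullback.snd (π ≫ q) b) :=
    MorphismProperty.pullback_snd (P := @GeometricallyConnected) _ _ inferInstance
  haveI : GeometricallyIntegral (pullback.snd (π ≫ q) b) :=
    AbVarLib.geometricallyIntegral_of_smooth (pullback.snd (π ≫ q) b)
  haveI : IsIntegral (pullback (π ≫ q) b) :=
    GeometricallyIntegral.geometrically_isIntegral (f := pullback.snd (π ≫ q) b)
      (𝟙 _) (𝟙 _) (pullback.snd (π ≫ q) b) (IsPullback.of_horiz_isIso ⟨by simp⟩)
  haveI : IsProper (bcHom π q b ≫ pullback.snd q b) := by rw [e']; exact hpr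
  haveI : Smooth (bcHom π q b ≫ pullback.snd q b) := by rw [e']; exact hsm
  haveI : GeometricallyConnected (bcHom π q b ≫ pullback.snd q b) := by rw [e']; exact hgc
  obtain ⟨_, hpY, -, hY, hfin, hfl⟩ := curve_quotient hp' (pullback.snd q b)
    (FlatMorLocalStr.isNormalScheme_of_smooth_field (pullback.snd (π ≫ q) b)) hd
  haveI := hfin
  haveI := hfl
  have hρ'' : ∀ a : G, (bcAct ρ (π ≫ q) hρ b a).hom ≫ pullback.snd (π ≫ q) b = pullback.snd (π ≫ q) b :=
    fun a => pullback.lift_snd _ _ _
  refine ⟨smooth_quotient hp' (pullback.snd q b) hd (fun a => by rw [e']; exact hρ'' a), hY, hfl, fun y => ?_⟩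
  haveI := hpY
  haveI : IsLocallyNoetherian (pullback q b) := LocallyOfFiniteType.isLocallyNoetherian (pullback.snd q b)
  exact finrank_eq_card hp' (pullback.snd (π ≫ q) b) hinj hρ'' y


lemma isIso_eqToHom' {C : Type*} [Category C] {a b : C} (h : a = b) : IsIso (eqToHom h) := by
  subst h
  exact IsIso.id _

/-- The quotient by an action which is trivial is an isomorphism. -/
theorem isIso_of_trivial (hp : SGA1.IsQuot ρ π) (h1 : ∀ a, ρ a = 1) : IsIso π := by
  haveI := hp.affine
  refine IsZariskiLocalAtTarget.of_iSup_eq_top (P := MorphismProperty.isomorphisms Scheme.{u})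
    (fun V : Y.affineOpens => V.1) (iSup_affineOpens_eq_top Y) fun V => ?_
  haveI : IsAffine (π ⁻¹ᵁ V.1).toScheme := V.2.preimage π
  haveI : IsAffine V.1.toScheme := V.2
  show IsIso (π ∣_ V.1)
  refine HasAffineProperty.iff_of_isAffine (P := MorphismProperty.isomorphisms Scheme.{u}).2 ⟨inferInstance, ?_⟩
  rw [morphismRestrict_appTop]
  haveI : IsIso (π.app (V.1.ι ''ᵁ ⊤)) := by
    rw [show V.1.ι ''ᵁ ⊤ = V.1 from Scheme.Opens.ι_image_top _]
    refine (ConcreteCategory.isIso_iff_bijective _).2 ⟨hp.injective V.1, fun s => ?_⟩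
    exact (hp.range_iff V.1 s).2 fun a => by
      rw [SGA1Quot.appLE_congr (a := (ρ a).hom) (b := 𝟙 X) (π ⁻¹ᵁ V.1) (π ⁻¹ᵁ V.1)
        (SGA1.preimage_le_of_inv ρ π hp.inv a V.1) le_rfl (congrArg Iso.hom (h1 a))]
      simp only [Scheme.Hom.appLE, Scheme.Hom.id_app]
      erw [Category.id_comp]
      erw [X.presheaf.map_id]
      rfl
  exact @IsIso.comp_isIso _ _ _ _ _ _ _ this (by rw [eqToHom_op, eqToHom_map]; exact isIso_eqToHom' _)

end Groth.Agent.Dbl24
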